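import Mathlib
import Cfsg.Agent.H160.QFinal
import Cfsg.Agent.H160.QModel
import Cfsg.Agent.H202.T.Enum
import Cfsg.Agent.Prune
set_option linter.all false
prune_inst 0x7fbfebfdfbbfafffffff7e7ff699effc3bd5dfffe6dffb4b7fe8ebffaf5f339019edff8d1de070ff0ed7e23610b87853fbfffeffe36ff87ffffdbff45ffbee5ff5f7bd0851d788340ff46ff78bf077ce7f3fffffffffffffffffffffffffffbeffbfffffffff
open scoped Cfsg.Agent.FastGrp

-- part: H970/Om7/Up
section
/-!
# Upper bounds for the element orders of seven-dimensional orthogonal groups, `q ≡ 1 mod 4` (helper970)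
-/

set_option autoImplicit false
set_option linter.unusedSectionVars false

namespace Cfsg.Agent.H970.Om7

open QuadraticMap Module
open Cfsg.Agent.LieClassical.OrthCore Cfsg.Agent.LieClassical.OrthForms
open Cfsg.Agent.H160.QSpin Cfsg.Agent.H160.QDisc Cfsg.Agent.H160.QSplit
  Cfsg.Agent.H160.QSemi Cfsg.Agent.H160.QRoots Cfsg.Agent.H160.QChar Cfsg.Agent.H160.QUpper Cfsg.Agent.H160.QReal
  Cfsg.Agent.H160.QModel

section Enum

variable {K : Type*} [Field K] [DecidableEq K] {q : ℕ} {R : Multiset K}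

theorem three'' (hq : Function.Injective (fun x : K => x ^ q)) (hq0 : 0 < q) {e : ℕ} (he : q = 2 * e + 1)
    (h : _root_.Cfsg.Agent.H160.QRoots.Inv q R) (hc : R.card = 6) :
    (∃ μ, IsMin q μ 3 ∧ R = (orb q μ 3).val) ∨ Bd R 1 ((q ^ 2 + 1) * ((q + 1) / 2)) ∨
      Bd R 1 ((q ^ 2 + 1) * ((q - 1) / 2)) ∨ Bd R 3 (q ^ 2 - 1) := by
  by_cases hbig : ∃ μ ∈ R, ∃ d, IsMin q μ d ∧ 3 ≤ d
  · obtain ⟨μ, hμ, d, hd, h3d⟩ := hbig
    have h1 := d_le hq h hd hμ
    obtain rfl : d = 3 := by omega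
    obtain ⟨R', h3, h4, h5, h6, h7⟩ := peel hq h hd
    have h8 : 1 ≤ R.count μ := Multiset.one_le_count_iff_mem.2 hμ
    have h9 : R.count μ = 1 := by omega
    have hR' : R'.card = 0 := by omega
    rw [Multiset.card_eq_zero] at hR'
    rw [h9, one_nsmul, hR', add_zero] at h3
    exact Or.inl ⟨μ, hd, h3⟩
  · push Not at hbig
    have hd2 : ∀ x ∈ R, ∀ d, IsMin q x d → d ≤ 2 := fun x hx d hd => by
      have := hbig x hx d hd; omega
    right
    rcases small_cases hq hq0 h hd2 with ⟨μ, hμ, hd, h1⟩ | h1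
    · obtain ⟨R', h3, h4, h5, h6, h7⟩ := peel hq h hd
      have h8 : 1 ≤ R.count μ := Multiset.one_le_count_iff_mem.2 hμ
      have h9 : R.count μ = 1 := by omega
      have hR' : R'.card = 2 := by omega
      have hcnt : ∀ x, R.count x ≤ 1 := by
        intro x
        by_cases hx : x ∈ R
        · by_cases hxo : x ∈ orb q μ 2
          · rw [count_orb h hxo, h9]
          · rw [← h6 x ((h5 x).2 ⟨hx, hxo⟩)]
            have := cnt_le hq h4 x
            omega
        · rw [Multiset.count_eq_zero_of_notMem hx]; omega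
      rcases one hq hq0 h4 hR' with h10 | h10
      · right; left
        refine ⟨hcnt, fun x hx => ?_⟩
        by_cases hxo : x ∈ orb q μ 2
        · exact Cfsg.Agent.H160.QRoots.pow_dvd (ex_orb hxo h1) (Dvd.intro _ rfl)
        · exact Cfsg.Agent.H160.QRoots.pow_dvd (h10.ex x ((h5 x).2 ⟨hx, hxo⟩)) (Cfsg.Agent.H202.T.dvd_sub_half he)
      · left
        refine ⟨hcnt, fun x hx => ?_⟩
        by_cases hxo : x ∈ orb q μ 2
        · exact Cfsg.Agent.H160.QRoots.pow_dvd (ex_orb hxo h1) (Dvd.intro _ rfl)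
        · exact Cfsg.Agent.H160.QRoots.pow_dvd (h10.ex x ((h5 x).2 ⟨hx, hxo⟩)) (Cfsg.Agent.H202.T.dvd_add_half he)
    · right; right
      exact ⟨fun x => by have := cnt_le hq h x; omega, h1⟩

end Enum

section Count

variable {F : Type*} [Field F] [Fintype F] [DecidableEq F]

theorem card_hyp3 : Fintype.card {p : (Fin 3 → F) × (Fin 3 → F) // hyp F 3 p = 1} =
    Fintype.card F ^ 2 * (Fintype.card F ^ 3 - 1) := by
  have h := ClassicalGeometry.NegOneOmega.card_hyperbolic (F := F) (S := Unit) (fun _ => 0) 3 1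
  have h1 : Fintype.card {s : Unit // (0 : F) = 1} = 0 := by
    rw [Fintype.card_eq_zero_iff]
    exact ⟨fun s => zero_ne_one s.2⟩
  have h2 : Fintype.card {p : (Fin 3 → F) × ((Fin 3 → F) × Unit) // ∑ i, p.1 i * p.2.1 i + 0 = (1 : F)} =
      Fintype.card {p : (Fin 3 → F) × (Fin 3 → F) // hyp F 3 p = 1} := by
    refine Fintype.card_congr ⟨fun p => ⟨(p.1.1, p.1.2.1), ?_⟩, fun p => ⟨(p.1.1, (p.1.2, ())), ?_⟩,
      fun p => rfl, fun p => rfl⟩
    · rw [hyp_apply]; simpa using p.2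
    · have := p.2; rw [hyp_apply] at this; simpa using this
  rw [h1, h2, mul_zero, add_zero, Fintype.card_unit, mul_one, mul_one] at h
  have hq : 0 < Fintype.card F := Fintype.card_pos
  apply Nat.eq_of_mul_eq_mul_left hq
  have h3 : Fintype.card F * (Fintype.card F ^ 2 * (Fintype.card F ^ 3 - 1)) + Fintype.card F ^ 3 =
      Fintype.card F ^ (2 * 3) := by
    obtain ⟨t, ht⟩ : ∃ t, Fintype.card F ^ 3 = t + 1 := ⟨Fintype.card F ^ 3 - 1, by
      have := pow_pos hq 3; omega⟩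
    rw [← mul_assoc, ← pow_succ', pow_mul', ht, Nat.add_sub_cancel]
    ring
  omega

/-- semiregular isometries of the six-dimensional space of plus type -/
theorem semireg3 {V : Type*} [AddCommGroup V] [Module F V] [FiniteDimensional F V] [Finite V]
    (h2 : (2 : F) ≠ 0) {Q : QuadraticForm F V} (hQ : Nondeg Q) (hV : finrank F V = 6)
    (hdc : dc Q = quadraticChar F (-1) ^ 3)
    {g : V ≃ₗ[F] V} (hg : El Q 1 g) {n : ℕ} (hn : 0 < n) (hgn : g ^ n = 1)
    (hfree : ∀ i, 0 < i → i < n → ∀ v, v ≠ 0 → (g ^ i) v ≠ v) :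
    Odd n ∨ 2 * n ∣ Fintype.card F ^ 2 * (Fintype.card F ^ 3 - 1) := by
  classical
  obtain ⟨hgO, hdet, hsp⟩ := hg
  let _ := Fintype.ofFinite {x : V // Q x = 1}
  obtain ⟨e, he⟩ := exists_iso h2 hQ (nondeg_hyp 3) (by rw [hV]; simp) (by rw [hdc, dc_hyp])
  have hcard : Fintype.card {x : V // Q x = 1} = Fintype.card F ^ 2 * (Fintype.card F ^ 3 - 1) := by
    rw [← card_hyp3]
    refine Fintype.card_congr ⟨fun x => ⟨e x, by rw [he]; exact x.2⟩, fun x => ⟨e.symm x, by
      rw [he.symm]; exact x.2⟩, fun x => Subtype.ext (e.symm_apply_apply _),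
      fun x => Subtype.ext (e.apply_symm_apply _)⟩
  rw [spin_apply] at hsp
  rw [← hcard]
  have hpow : ∀ (i : ℕ) (x : {x : V // Q x = 1}),
      (((qperm Q ⟨g, hgO⟩ ^ i) x : {x : V // Q x = 1}) : V) = (g ^ i) x := by
    intro i x
    rw [← map_pow]
    rfl
  refine sign_semireg (qperm Q ⟨g, hgO⟩) hn ?_ ?_ hsp
  · ext x
    rw [hpow, hgn]
    rfl
  · intro i hi hin x hx
    have h3 := congrArg Subtype.val hx
    rw [hpow] at h3
    refine hfree i hi hin x ?_ h3
    intro h0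
    have := x.2
    rw [h0, QuadraticMap.map_zero] at this
    exact zero_ne_one this

end Count

variable {F : Type*} [Field F] [Fintype F] [DecidableEq F] {V : Type*} [AddCommGroup V] [Module F V]
  [FiniteDimensional F V] [Finite V] {p : ℕ} [hp : Fact p.Prime] [CharP F p]

/-- the bounds -/
def Lst (p q : ℕ) {G : Type*} [Group G] (g : G) : Prop :=
  g ^ ((q ^ 3 - 1) / 2) = 1 ∨ g ^ ((q ^ 3 + 1) / 2) = 1 ∨ g ^ ((q ^ 2 + 1) * ((q + 1) / 2)) = 1 ∨
    g ^ ((q ^ 2 + 1) * ((q - 1) / 2)) = 1 ∨ g ^ (p * (q ^ 2 + 1)) = 1 ∨ g ^ (p * (q ^ 2 - 1)) = 1 ∨ g ^ (p ^ 2) = 1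

/-- no eigenvalues `±1`, dimension six -/
theorem upper6 (h2 : (2 : F) ≠ 0) (hp3 : 3 ≤ p) (hq4 : Fintype.card F % 4 = 1) {Q : QuadraticForm F V}
    (hQ : Nondeg Q) (hV : finrank F V = 6) {g : V ≃ₗ[F] V} (hg : El Q 1 g) (h1 : ∀ v, g v = v → v = 0)
    (hm1 : ∀ v, g v = -v → v = 0) : Lst p (Fintype.card F) g := by
  classical
  obtain ⟨hgO, hdet, hsp⟩ := hg
  obtain ⟨e, he⟩ := card_odd_eq h2
  have hee : Even e := by
    rw [Nat.even_iff]; omega
  have hq0 : 0 < Fintype.card F := Fintype.card_pos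
  have hInv := inv_rts hQ hgO h1 hm1
  have hcard := card_rts (en g)
  rw [hV] at hcard
  have hdet1 : LinearMap.det (en g) = 1 := by
    have := congrArg Units.val hdet
    rwa [LinearEquiv.coe_det] at this
  obtain ⟨hne, hdcQ⟩ := dc_of_no_pm hQ hgO h1 hm1 hdet1
  have hqc1 : quadraticChar F (-1) = 1 := by
    rw [quadraticChar_one_iff_isSquare (neg_ne_zero.2 one_ne_zero), FiniteField.isSquare_neg_one_iff]
    omega
  have hm1F : (-1 : F) ≠ 1 := by
    intro h3
    apply h2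
    have : (2 : F) = 1 - (-1) := by norm_num
    rw [this, h3, sub_self]
  have hchar : ringChar F ≠ 2 := by
    intro h
    apply h2
    have := ringChar.spec F 2
    rw [h] at this
    exact_mod_cast this.2 dvd_rfl
  have hphi : phi (rts (en g)) ^ e = algebraMap F (AlgebraicClosure F)
      (((en g).charpoly.eval 1 * (en g).charpoly.eval (-1)) ^ e) := by
    rw [phi_rts, ← map_pow]
  -- exponents
  have hex : ∀ {M N c : ℕ}, Bd (rts (en g)) M N → M ≤ p ^ c → g ^ (N * p ^ c) = 1 := by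
    intro M N c hB hc
    apply en_inj
    rw [en_pow]
    exact pow_eq_one_of_bd hB hc
  rcases three'' (frob_inj F) hq0 he hInv hcard with ⟨μ, hmin, hR⟩ | hB | hB | hB
  · -- the semiregular case
    have hcount : ∀ x, (rts (en g)).count x ≤ 1 := by
      intro x
      rw [hR]
      exact Multiset.nodup_iff_count_le_one.1 (orb _ μ 3).nodup x
    have hbd : ∀ i, μ ^ i = 1 → g ^ i = 1 := by
      intro i hi
      have hB : Bd (rts (en g)) 1 i := by
        refine ⟨hcount, fun x hx => ?_⟩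
        rw [hR] at hx
        exact ex_orb hx hi
      have := hex (c := 0) hB (by simp)
      simpa using this
    have hfix : ∀ i v, v ≠ 0 → (g ^ i) v = v → g ^ i = 1 := by
      intro i v hv hgv
      apply hbd
      by_contra hμi
      apply hv
      refine no_fixed (g := en g) (n := i) (fun x hx hxi => hμi ?_) (v := v) ?_
      · rw [hR] at hx
        obtain ⟨j, _, rfl | rfl⟩ := mem_orb.1 hx
        · rw [← pow_mul, mul_comm, pow_mul] at hxi
          have h6 : (μ ^ i) ^ (Fintype.card F ^ j) = 1 ^ (Fintype.card F ^ j) := by rw [hxi, one_pow]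
          exact inj_pow (frob_inj F) j h6
        · rw [inv_pow, ← pow_mul, mul_comm, pow_mul, inv_eq_one] at hxi
          have h6 : (μ ^ i) ^ (Fintype.card F ^ j) = 1 ^ (Fintype.card F ^ j) := by rw [hxi, one_pow]
          exact inj_pow (frob_inj F) j h6
      · rw [← en_pow]
        exact hgv
    have hn : 0 < orderOf g := by
      have hfin : Finite (V ≃ₗ[F] V) := Finite.of_injective (fun g : V ≃ₗ[F] V => (g : V → V)) DFunLike.coe_injective
      exact orderOf_pos g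
    have hpo := phi_orb (frob_inj F) (frob_sub F) he hmin
    rw [← hR, hphi] at hpo
    have hsgn : (-1 : AlgebraicClosure F) ^ (3 * e) = 1 := (hee.mul_left 3).neg_one_pow
    rw [hsgn] at hpo
    have hodd3 : Odd (Fintype.card F ^ 3) := Odd.pow ⟨e, he⟩
    rcases hmin.eq with hc | hc
    · -- plus type
      left
      have h3 := hpo.1 hc
      have h4 : ((en g).charpoly.eval 1 * (en g).charpoly.eval (-1)) ^ (Fintype.card F / 2) = 1 := by
        have h5 : Fintype.card F / 2 = e := by omega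
        rw [h5]
        exact (algebraMap F (AlgebraicClosure F)).injective (by rw [h3, map_one])
      have h5 := (FiniteField.isSquare_iff hchar hne).2 h4
      rw [(quadraticChar_one_iff_isSquare hne).2 h5] at hdcQ
      have hdvd : orderOf g ∣ Fintype.card F ^ 3 - 1 :=
        orderOf_dvd_of_pow_eq_one (hbd _ (pow_sub_of_eq hmin.ne0 (pow_pos hq0 3) hc))
      have hpos3 : 1 ≤ Fintype.card F ^ 3 := Nat.one_le_pow _ _ hq0
      have heven3 : Fintype.card F ^ 3 - 1 = 2 * ((Fintype.card F ^ 3 - 1) / 2) := by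
        obtain ⟨k, hk⟩ := hodd3
        omega
      apply orderOf_dvd_iff_pow_eq_one.1
      rcases semireg3 h2 hQ hV (by rw [hdcQ, hqc1, one_pow]) ⟨hgO, hdet, hsp⟩ hn (pow_orderOf_eq_one g)
        (fun i hi hin v hv hgv => pow_ne_one_of_lt_orderOf hi.ne' hin (hfix i v hv hgv)) with ho | hd
      · rw [heven3] at hdvd
        exact (Nat.Coprime.dvd_mul_left (Nat.Coprime.symm (by simpa using ho.coprime_two_left))).1 hdvd
      · have hcop : Nat.Coprime (2 * orderOf g) (Fintype.card F ^ 2) := by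
          apply Nat.Coprime.pow_right
          apply Nat.Coprime.mul_left
          · have ho : Odd (Fintype.card F) := ⟨e, he⟩
            simpa using ho.coprime_two_left
          · have h8 : Nat.Coprime (Fintype.card F ^ 3 - 1) (Fintype.card F) := by
              have h9 : Nat.Coprime (Fintype.card F ^ 3 - 1) (Fintype.card F ^ 3) :=
                (Nat.coprime_self_sub_left hpos3).2 (Nat.coprime_one_left _)
              exact (Nat.coprime_pow_right_iff (by norm_num) _ _).1 h9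
            exact Nat.Coprime.coprime_dvd_left hdvd h8
        have h10 := hcop.dvd_of_dvd_mul_left hd
        rw [heven3] at h10
        exact Nat.dvd_of_mul_dvd_mul_left (by norm_num) h10
    · -- minus type
      right; left
      have h3 := hpo.2 hc
      rw [one_mul] at h3
      have hns : ¬ IsSquare ((en g).charpoly.eval 1 * (en g).charpoly.eval (-1)) := by
        intro hsq
        have h4 := (FiniteField.isSquare_iff hchar hne).1 hsq
        have h5 : Fintype.card F / 2 = e := by omega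
        rw [h5] at h4
        rw [h4, map_one] at h3
        apply hm1F
        apply (algebraMap F (AlgebraicClosure F)).injective
        rw [map_neg, map_one, ← h3]
      rw [quadraticChar_neg_one_iff_not_isSquare.2 hns] at hdcQ
      have h4 : g ^ (Fintype.card F ^ 3 + 1) = 1 := hbd _ (pow_add_of_eq hmin.ne0 hc)
      by_contra hh
      set h := g ^ ((Fintype.card F ^ 3 + 1) / 2) with hhdef
      have hh2 : h * h = 1 := by
        rw [hhdef, ← pow_add, ← h4]
        congr 1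
        obtain ⟨k, hk⟩ := hodd3
        omega
      have hneg : h = LinearEquiv.neg F := by
        ext v
        rw [LinearEquiv.neg_apply]
        by_contra hv
        have h5 : h (h v + v) = h v + v := by
          rw [map_add]
          have h6 : h (h v) = v := by
            rw [← LinearEquiv.mul_apply, hh2]
            rfl
          rw [h6, add_comm]
        have h7 : h v + v ≠ 0 := fun h8 => hv (eq_neg_of_add_eq_zero_left h8)
        exact hh (hfix _ _ h7 h5)
      have h5 : El Q 1 h := by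
        have := (show El Q 1 g from ⟨hgO, hdet, hsp⟩).pow ((Fintype.card F ^ 3 + 1) / 2)
        rwa [one_pow] at this
      rw [hneg] at h5
      obtain ⟨h6, -, h7⟩ := h5
      have h8 := spin_neg_one h2 hQ (by rw [hV]; decide)
      rw [hdcQ] at h8
      have h9 : ((spin Q ⟨LinearEquiv.neg F, neg_mem_O Q⟩ : ℤˣ) : ℤ) = 1 := by
        rw [show (⟨LinearEquiv.neg F, neg_mem_O Q⟩ : O Q) = ⟨LinearEquiv.neg F, h6⟩ from rfl, h7]
        rfl
      rw [h8] at h9
      exact absurd h9 (by decide)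
  · right; right; left
    simpa only [_root_.pow_zero, _root_.mul_one] using hex (c := 0) hB (by simp)
  · right; right; right; left
    simpa only [_root_.pow_zero, _root_.mul_one] using hex (c := 0) hB (by simp)
  · right; right; right; right; right; left
    have := hex (c := 1) hB (by rw [pow_one]; omega)
    rwa [pow_one, mul_comm] at this

/-- unipotent isometries have determinant one -/
theorem det_unip {Q : QuadraticForm F V} (h2 : (2 : F) ≠ 0) (hQ : Nondeg Q) {g : V ≃ₗ[F] V} (hg : g ∈ O Q) {c : ℕ}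
    (h : g ^ (p ^ c) = 1) : LinearEquiv.det g = 1 := by
  have hpo : Odd (p ^ c) := (odd_p (F := F) (p := p) h2).pow
  apply eq_one_of_odd hpo (det_sq hQ hg)
  rw [← map_pow, h, map_one]

/-- splitting off the eigenvalue `-1` from an isometry without eigenvalue `1` -/
theorem split_neg {Q : QuadraticForm F V} {g : V ≃ₗ[F] V} (hg : g ∈ O Q) (h1 : ∀ v, g v = v → v = 0) :
    ∃ (n₁ n₂ : ℕ) (Q₁ : QuadraticForm F (Fin n₁ → F)) (Q₂ : QuadraticForm F (Fin n₂ → F))
      (g₁ : (Fin n₁ → F) ≃ₗ[F] (Fin n₁ → F)) (g₂ : (Fin n₂ → F) ≃ₗ[F] (Fin n₂ → F))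
      (e : ((Fin n₁ → F) × (Fin n₂ → F)) ≃ₗ[F] V),
      IsIso (Q₁.prod Q₂) Q e ∧ g = cj e (pr g₁ (LinearEquiv.neg F * g₂)) ∧ g₁ ∈ O Q₁ ∧ g₂ ∈ O Q₂ ∧
      (∀ x, g₁ x = x → x = 0) ∧ (∀ x, g₁ x = -x → x = 0) ∧ (en g₂ - 1) ^ n₂ = 0 := by
  have hkO : LinearEquiv.neg F * g ∈ O Q := (O Q).mul_mem (neg_mem_O Q) hg
  obtain ⟨n₁, n₂, Q₁, Q₂, g₁, g₂, e, he, hk, hno, hnil⟩ := split hkO
  have hgeq : g = cj e (pr (LinearEquiv.neg F * g₁) (LinearEquiv.neg F * g₂)) := by
    have h3 : LinearEquiv.neg F * (LinearEquiv.neg F * g) = g := by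
      rw [← mul_assoc, ← pow_two, Cfsg.Agent.H160.QUpper.neg_pow_two, one_mul]
    rw [← h3, hk, pr_mul, cj_mul, pr_neg, cj_neg]
  have hprO : pr g₁ g₂ ∈ O (Q₁.prod Q₂) := by
    have := cj_mem_O he.symm hkO
    rwa [hk, cj_symm_cj] at this
  obtain ⟨hg₁, hg₂⟩ := pr_mem_O_iff.1 hprO
  refine ⟨n₁, n₂, Q₁, Q₂, LinearEquiv.neg F * g₁, g₂, e, he, hgeq, (O Q₁).mul_mem (neg_mem_O Q₁) hg₁, hg₂, ?_, ?_,
    hnil⟩
  · intro x hx
    have h3 : g (e (x, 0)) = e (x, 0) := by
      conv_lhs => rw [hgeq, cj_apply', pr_apply]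
      simp only [map_zero, hx]
    have h4 := h1 _ h3
    rw [e.map_eq_zero_iff] at h4
    exact congrArg Prod.fst h4
  · intro x hx
    apply hno
    have h3 : (LinearEquiv.neg F * g₁ : (Fin n₁ → F) ≃ₗ[F] (Fin n₁ → F)) x = - (g₁ x) := rfl
    rw [h3] at hx
    exact neg_injective hx

/-- an isometry without eigenvalues `±1` lives in even dimension -/
theorem even_of_no_pm {Q : QuadraticForm F V} (hQ : Nondeg Q) {g : V ≃ₗ[F] V} (hg : g ∈ O Q)
    (h1 : ∀ v, g v = v → v = 0) (hm1 : ∀ v, g v = -v → v = 0) : Even (finrank F V) := by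
  classical
  exact Cfsg.Agent.H202.T.even_card (frob_inj F) Fintype.card_pos _ _ (card_rts (en g)) (inv_rts hQ hg h1 hm1)

/-- **the bounds** in dimension seven -/
theorem upper7 (h2 : (2 : F) ≠ 0) (hp5 : 5 ≤ p) (hq4 : Fintype.card F % 4 = 1) {Q : QuadraticForm F V}
    (hQ : Nondeg Q) (hV : finrank F V = 7) {g : V ≃ₗ[F] V} (hg : El Q 1 g) : Lst p (Fintype.card F) g := by
  classical
  obtain ⟨hgO, hdet, hsp⟩ := hg
  have hq0 : 0 < Fintype.card F := Fintype.card_pos
  obtain ⟨e', he'⟩ := card_odd_eq h2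
  have hqodd : Odd (Fintype.card F) := ⟨e', he'⟩
  obtain ⟨n₁, n₂, Q₁, Q₂, g₁, g₂, e, he, hge, hno, hnil⟩ := split hgO
  obtain ⟨hQ₁, hQ₂⟩ := nondeg_of_prod (he.symm.nondeg hQ)
  have hprO : pr g₁ g₂ ∈ O (Q₁.prod Q₂) := by
    have := cj_mem_O he.symm hgO
    rwa [hge, cj_symm_cj] at this
  obtain ⟨hg₁, hg₂⟩ := pr_mem_O_iff.1 hprO
  have hdim : n₁ + n₂ = 7 := by
    have := e.finrank_eq
    rw [hV] at this
    simpa only [_root_.Module.finrank_prod, _root_.Module.finrank_fintype_fun_eq_card, _root_.Fintype.card_fin] using this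
  have hg₂p : g₂ ^ (p ^ 2) = 1 := unip_pow hnil (by nlinarith only [hp5, hdim])
  have hdet₂ : LinearEquiv.det g₂ = 1 := det_unip h2 hQ₂ hg₂ hg₂p
  have hdet₁ : LinearEquiv.det g₁ = 1 := by
    have h3 := hdet
    rw [hge, det_cj, det_pr, hdet₂, mul_one] at h3
    exact h3
  have hm1F : (-1 : F) ≠ 1 := by
    intro h3
    apply h2
    have : (2 : F) = 1 - (-1) := by norm_num
    rw [this, h3, sub_self]
  have hev₁ : Even n₁ := by
    have h3 := det_of_no_one hQ₁ hg₁ hno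
    have h4 : LinearMap.det (en g₁) = 1 := by
      have := congrArg Units.val hdet₁
      rwa [LinearEquiv.coe_det] at this
    rw [h4] at h3
    simp only [finrank_fintype_fun_eq_card, Fintype.card_fin] at h3
    by_contra hodd
    rw [Nat.not_even_iff_odd] at hodd
    rw [hodd.neg_one_pow] at h3
    exact hm1F h3.symm
  have hdone : ∀ N, g₁ ^ N = 1 → g₂ ^ N = 1 → g ^ N = 1 := by
    intro N hN1 hN2
    rw [hge, ← cj_pow, pr_pow, hN1, hN2, pr_one, cj_one]
  -- everything unipotent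
  rcases Nat.eq_zero_or_pos n₁ with hn0 | hn0
  · right; right; right; right; right; right
    refine hdone _ ?_ hg₂p
    subst hn0
    ext x i
    exact i.elim0
  have hg₂p1 : g₂ ^ p = 1 := by
    have := unip_pow (p := p) (c := 1) hnil (by obtain ⟨k, hk⟩ := hev₁; rw [pow_one]; omega)
    rwa [pow_one] at this
  obtain ⟨m₁, m₂, R₁, R₂, a, b, e₁, he₁, hg₁e, haO, hbO, ha1, ham, hbnil⟩ := split_neg hg₁ hno
  obtain ⟨hR₁, hR₂⟩ := nondeg_of_prod (he₁.symm.nondeg hQ₁)
  have hdim₁ : m₁ + m₂ = n₁ := by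
    have := e₁.finrank_eq
    simpa only [_root_.Module.finrank_prod, _root_.Module.finrank_fintype_fun_eq_card, _root_.Fintype.card_fin] using this
  have hevm₁ : Even m₁ := by simpa only [_root_.Module.finrank_fintype_fun_eq_card, _root_.Fintype.card_fin] using even_of_no_pm hR₁ haO ha1 ham
  have hbp : b ^ p = 1 := by
    rcases Nat.eq_zero_or_pos m₂ with h0 | h0
    · subst h0
      ext x i
      exact i.elim0
    · obtain ⟨m, hm⟩ : ∃ m, m₂ = m + 1 := ⟨m₂ - 1, by omega⟩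
      have hmo : Odd m := by
        obtain ⟨s, hs⟩ := hev₁
        obtain ⟨t, ht⟩ := hevm₁
        rw [Nat.odd_iff]; omega
      have h3 := unip_even h2 hR₂ hbO (by simp [hm]) hmo (by rw [← hm]; exact hbnil)
      have := unip_pow (p := p) (c := 1) h3 (by obtain ⟨s, hs⟩ := hev₁; rw [pow_one]; omega)
      rwa [pow_one] at this
  have hb2p : (LinearEquiv.neg F * b) ^ (2 * p) = 1 := neg_mul_pow hbp
  have hdone₁ : ∀ N, a ^ N = 1 → 2 * p ∣ N → g ^ N = 1 := by
    intro N hN1 hN2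
    refine hdone N ?_ (pow_dvd_one hg₂p1 (dvd_trans (Dvd.intro_left 2 rfl) hN2))
    rw [hg₁e, ← cj_pow, pr_pow, hN1, pow_dvd_one hb2p hN2, pr_one, cj_one]
  have h2m : 2 ∣ Fintype.card F ^ 2 - 1 := even_iff_two_dvd.1 (Nat.Odd.sub_odd hqodd.pow odd_one)
  have h2p : 2 ∣ Fintype.card F ^ 2 + 1 := even_iff_two_dvd.1 (Odd.add_odd hqodd.pow odd_one)
  have hInv := inv_rts hR₁ haO ha1 ham
  have hcard := card_rts (en a)
  simp only [finrank_fintype_fun_eq_card, Fintype.card_fin] at hcard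
  have hex : ∀ {M N c : ℕ}, Bd (rts (en a)) M N → M ≤ p ^ c → a ^ (N * p ^ c) = 1 := by
    intro M N c hB hc
    apply en_inj
    rw [en_pow]
    exact pow_eq_one_of_bd hB hc
  have hm₁ : m₁ = 0 ∨ m₁ = 2 ∨ m₁ = 4 ∨ m₁ = 6 := by
    obtain ⟨t, ht⟩ := hevm₁
    omega
  rcases hm₁ with hm | hm | hm | hm
  · right; right; right; right; right; left
    refine hdone₁ _ ?_ (by rw [mul_comm]; exact Nat.mul_dvd_mul_left p h2m)
    subst hm
    ext x i
    exact i.elim0
  · right; right; right; right; right; left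
    refine hdone₁ _ ?_ (by rw [mul_comm]; exact Nat.mul_dvd_mul_left p h2m)
    rcases one (frob_inj F) hq0 hInv (by rw [hcard, hm]) with hB | hB
    · have := hex (c := 0) hB (by simp)
      rw [pow_zero, mul_one] at this
      exact pow_dvd_one this ((sub_one_dvd _ 2).trans (Dvd.intro_left p rfl))
    · have := hex (c := 0) hB (by simp)
      rw [pow_zero, mul_one] at this
      exact pow_dvd_one this ((add_one_dvd_sq _).trans (Dvd.intro_left p rfl))
  · rcases two (frob_inj F) hq0 hInv (by rw [hcard, hm]) with hB | hB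
    · right; right; right; right; left
      refine hdone₁ _ ?_ (by rw [mul_comm]; exact Nat.mul_dvd_mul_left p h2p)
      have := hex (c := 0) hB (by simp)
      rw [pow_zero, mul_one] at this
      exact pow_dvd_one this (Dvd.intro_left p rfl)
    · right; right; right; right; right; left
      refine hdone₁ _ ?_ (by rw [mul_comm]; exact Nat.mul_dvd_mul_left p h2m)
      have := hex (c := 1) hB (by rw [pow_one]; omega)
      rwa [pow_one, mul_comm] at this
  · -- six-dimensional part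
    have hm₂ : m₂ = 0 := by
      obtain ⟨s, hs⟩ := hev₁
      omega
    have hn₂ : n₂ = 1 := by omega
    have hg₂1 : g₂ = 1 := by
      subst hn₂
      apply en_inj
      rw [pow_one, sub_eq_zero] at hnil
      rw [hnil]
      rfl
    have hg₁no : ∀ v, g₁ v = -v → v = 0 := by
      intro v hv
      obtain ⟨⟨x, y⟩, rfl⟩ := e₁.surjective v
      have hy : y = 0 := by
        subst hm₂
        ext i
        exact i.elim0
      subst hy
      rw [hg₁e, cj_apply', pr_apply, ← map_neg] at hv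
      have h3 := congrArg Prod.fst (e₁.injective hv)
      have h4 : x = 0 := ham x h3
      rw [h4]
      exact map_zero e₁
    have hEl₁ : El Q₁ 1 g₁ := by
      refine ⟨hg₁, hdet₁, ?_⟩
      have h3 := spin_cj he (pr_mem_O hg₁ hg₂)
      have h4 : (⟨cj e (pr g₁ g₂), cj_mem_O he (pr_mem_O hg₁ hg₂)⟩ : O Q) = ⟨g, hgO⟩ := Subtype.ext hge.symm
      rw [h4, hsp, spin_pr h2 hQ₁ hQ₂ hg₁ hg₂] at h3
      have h5 : (⟨g₂, hg₂⟩ : O Q₂) = 1 := Subtype.ext hg₂1
      rw [h5, map_one, mul_one] at h3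
      exact h3.symm
    have h6 := upper6 (p := p) h2 (by omega) hq4 hQ₁ (by simp only [_root_.Module.finrank_fintype_fun_eq_card, _root_.Fintype.card_fin]; omega) hEl₁ hno hg₁no
    have hd : ∀ N, g₁ ^ N = 1 → g ^ N = 1 := fun N hN => hdone N hN (by rw [hg₂1, one_pow])
    rcases h6 with h | h | h | h | h | h | h
    · exact Or.inl (hd _ h)
    · exact Or.inr (Or.inl (hd _ h))
    · exact Or.inr (Or.inr (Or.inl (hd _ h)))
    · exact Or.inr (Or.inr (Or.inr (Or.inl (hd _ h))))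
    · exact Or.inr (Or.inr (Or.inr (Or.inr (Or.inl (hd _ h)))))
    · exact Or.inr (Or.inr (Or.inr (Or.inr (Or.inr (Or.inl (hd _ h))))))
    · exact Or.inr (Or.inr (Or.inr (Or.inr (Or.inr (Or.inr (hd _ h))))))

end Cfsg.Agent.H970.Om7
end

-- part: H970/Om7/Main
section
/-!
# Element orders of `Ω₇(q)`, `q = 5 ^ m` (helper970)
-/

set_option autoImplicit false

namespace Cfsg.Agent.H970.Om7

open QuadraticMap Module
open Cfsg.Agent.LieClassical.OrthCore Cfsg.Agent.LieClassical.OrthForms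
open Cfsg.Agent.H160.QSpin Cfsg.Agent.H160.QDisc Cfsg.Agent.H160.QSplit
  Cfsg.Agent.H160.QSemi Cfsg.Agent.H160.QReal Cfsg.Agent.H160.QModel Cfsg.Agent.H160.QFinal

section Num

theorem q_facts {m q : ℕ} (hm : 1 ≤ m) (hq : q = 5 ^ m) : 5 ≤ q ∧ q % 4 = 1 := by
  subst hq
  refine ⟨?_, ?_⟩
  · calc 5 = 5 ^ 1 := by norm_num
      _ ≤ 5 ^ m := Nat.pow_le_pow_right (by norm_num) hm
  · rw [Nat.pow_mod]
    simp

theorem four_dvd {q : ℕ} (hq : q % 4 = 1) : ∃ t, q = 4 * t + 1 := ⟨q / 4, by omega⟩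

theorem quarter {t : ℕ} : ((4 * t + 1) ^ 4 - 1) / 4 = 4 * t * (8 * t ^ 2 + 4 * t + 1) * (2 * t + 1) := by
  have : (4 * t + 1) ^ 4 = 4 * (4 * t * (8 * t ^ 2 + 4 * t + 1) * (2 * t + 1)) + 1 := by ring
  omega

theorem A_eq {t : ℕ} : ((4 * t + 1) ^ 2 + 1) * ((4 * t + 1 + 1) / 2) = 2 * (8 * t ^ 2 + 4 * t + 1) * (2 * t + 1) := by
  have h1 : (4 * t + 1 + 1) / 2 = 2 * t + 1 := by omega
  rw [h1]; ring

theorem B_eq {t : ℕ} : ((4 * t + 1) ^ 2 + 1) * ((4 * t + 1 - 1) / 2) = 2 * (8 * t ^ 2 + 4 * t + 1) * (2 * t) := by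
  have h1 : (4 * t + 1 - 1) / 2 = 2 * t := by omega
  rw [h1]; ring

theorem A_dvd {q : ℕ} (hq : q % 4 = 1) : (q ^ 2 + 1) * ((q + 1) / 2) ∣ (q ^ 4 - 1) / 4 := by
  obtain ⟨t, rfl⟩ := four_dvd hq
  rw [quarter, A_eq]
  exact ⟨2 * t, by ring⟩

theorem B_dvd {q : ℕ} (hq : q % 4 = 1) : (q ^ 2 + 1) * ((q - 1) / 2) ∣ (q ^ 4 - 1) / 4 := by
  obtain ⟨t, rfl⟩ := four_dvd hq
  rw [quarter, B_eq]
  exact ⟨2 * t + 1, by ring⟩

end Num

variable {F : Type*} [Field F] [Fintype F]

theorem char_five {m : ℕ} (hF : Fintype.card F = 5 ^ m) : CharP F 5 := by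
  obtain ⟨p, hp⟩ := CharP.exists F
  have hpp : p.Prime := CharP.char_is_prime F p
  obtain ⟨n, -, hn⟩ := FiniteField.card F p
  rw [hF] at hn
  have h1 : p ∣ 5 ^ m := by rw [hn]; exact dvd_pow_self p n.2.ne'
  have h2 : p = 5 := (Nat.prime_dvd_prime_iff_eq hpp (by norm_num)).1 (hpp.dvd_of_dvd_pow h1)
  rwa [← h2]

theorem two_ne {m : ℕ} (hF : Fintype.card F = 5 ^ m) : (2 : F) ≠ 0 := by
  have := char_five hF
  intro h
  have h3 := (CharP.cast_eq_zero_iff F 5 2).1 (by exact_mod_cast h)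
  omega

/-- the orders of the elements of `PΩ₇(q)` -/
theorem range_seven (h2 : (2 : F) ≠ 0) (N : ℕ) :
    (∃ g : Cfsg.POmega F (Cfsg.quadFormOdd 3 F), orderOf g = N) ↔
      ∃ g : (Unit ⊕ (Fin 3 ⊕ Fin 3) → F) ≃ₗ[F] (Unit ⊕ (Fin 3 ⊕ Fin 3) → F),
        El (oddForm 3 F) 1 g ∧ orderOf g = N := by
  rw [← coe_oddForm]
  exact range_POmega h2 (nondeg_oddForm 3 F h2) (by decide) (by decide) N

/-- the bounds -/
theorem orders {m : ℕ} (hm : 1 ≤ m) (hF : Fintype.card F = 5 ^ m) (g : Cfsg.POmega F (Cfsg.quadFormOdd 3 F)) :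
    orderOf g ∣ (Fintype.card F ^ 3 - 1) / 2 ∨ orderOf g ∣ (Fintype.card F ^ 3 + 1) / 2 ∨
      orderOf g ∣ (Fintype.card F ^ 2 + 1) * ((Fintype.card F + 1) / 2) ∨
      orderOf g ∣ (Fintype.card F ^ 2 + 1) * ((Fintype.card F - 1) / 2) ∨
      orderOf g ∣ 5 * (Fintype.card F ^ 2 + 1) ∨ orderOf g ∣ 5 * (Fintype.card F ^ 2 - 1) ∨ orderOf g ∣ 25 := by
  classical
  have := char_five hF
  have hp : Fact (Nat.Prime 5) := ⟨by norm_num⟩
  have h2 := two_ne hF
  obtain ⟨h, hh, ho⟩ := (range_seven h2 (orderOf g)).1 ⟨g, rfl⟩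
  have h3 : Lst 5 (Fintype.card F) h := upper7 h2 le_rfl (q_facts hm hF).2 (nondeg_oddForm 3 F h2) (by simp) hh
  rw [← ho]
  rcases h3 with h | h | h | h | h | h | h
  · exact Or.inl (orderOf_dvd_of_pow_eq_one h)
  · exact Or.inr (Or.inl (orderOf_dvd_of_pow_eq_one h))
  · exact Or.inr (Or.inr (Or.inl (orderOf_dvd_of_pow_eq_one h)))
  · exact Or.inr (Or.inr (Or.inr (Or.inl (orderOf_dvd_of_pow_eq_one h))))
  · exact Or.inr (Or.inr (Or.inr (Or.inr (Or.inl (orderOf_dvd_of_pow_eq_one h)))))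
  · exact Or.inr (Or.inr (Or.inr (Or.inr (Or.inr (Or.inl (orderOf_dvd_of_pow_eq_one h))))))
  · exact Or.inr (Or.inr (Or.inr (Or.inr (Or.inr (Or.inr (orderOf_dvd_of_pow_eq_one h))))))

/-- **L2**: upper bounds -/
theorem ub {m : ℕ} (hm : 1 ≤ m) (hF : Fintype.card F = 5 ^ m) (g : Cfsg.POmega F (Cfsg.quadFormOdd 3 F)) :
    orderOf g ∣ (Fintype.card F ^ 3 - 1) / 2 ∨ orderOf g ∣ (Fintype.card F ^ 3 + 1) / 2 ∨
      orderOf g ∣ (Fintype.card F ^ 4 - 1) / 4 ∨ orderOf g ∣ 5 * (Fintype.card F ^ 2 + 1) ∨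
      orderOf g ∣ 5 * (Fintype.card F ^ 2 - 1) ∨ orderOf g ∣ 25 := by
  have hq := (q_facts hm hF).2
  rcases orders hm hF g with h | h | h | h | h | h | h
  · exact Or.inl h
  · exact Or.inr (Or.inl h)
  · exact Or.inr (Or.inr (Or.inl (h.trans (A_dvd hq))))
  · exact Or.inr (Or.inr (Or.inl (h.trans (B_dvd hq))))
  · exact Or.inr (Or.inr (Or.inr (Or.inl h)))
  · exact Or.inr (Or.inr (Or.inr (Or.inr (Or.inl h))))
  · exact Or.inr (Or.inr (Or.inr (Or.inr (Or.inr h))))

/-- **L5 (f)** -/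
theorem ne {m : ℕ} (hm : 1 ≤ m) (hF : Fintype.card F = 5 ^ m) (g : Cfsg.POmega F (Cfsg.quadFormOdd 3 F)) :
    orderOf g ≠ (Fintype.card F ^ 4 - 1) / 4 := by
  intro ho
  obtain ⟨hq5, hq⟩ := q_facts hm hF
  have h := orders hm hF g
  rw [ho] at h
  obtain ⟨t, ht⟩ := four_dvd hq
  have ht1 : 1 ≤ t := by omega
  rw [ht, quarter] at h
  have e1 : ((4 * t + 1) ^ 3 - 1) / 2 = 2 * t * (16 * t ^ 2 + 12 * t + 3) := by
    have : (4 * t + 1) ^ 3 = 2 * (2 * t * (16 * t ^ 2 + 12 * t + 3)) + 1 := by ring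
    omega
  have e2 : ((4 * t + 1) ^ 3 + 1) / 2 = 2 * t * (16 * t ^ 2 + 12 * t + 3) + 1 := by
    have : (4 * t + 1) ^ 3 = 2 * (2 * t * (16 * t ^ 2 + 12 * t + 3)) + 1 := by ring
    omega
  have e3 : 5 * ((4 * t + 1) ^ 2 - 1) = 40 * t * (2 * t + 1) := by
    have : (4 * t + 1) ^ 2 = 8 * t * (2 * t + 1) + 1 := by ring
    rw [this, Nat.add_sub_cancel]
    ring
  rw [e1, e2, e3, A_eq, B_eq] at h
  have hlarge : 4 * t * (8 * t ^ 2 + 4 * t + 1) * (2 * t + 1) ≥ 4 * t * (8 * t ^ 2 + 4 * t + 1) * 3 :=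
    Nat.mul_le_mul_left _ (by omega)
  have pos : 0 < t := ht1
  rcases h with h | h | h | h | h | h | h
  · have := Nat.le_of_dvd (by positivity) h
    nlinarith only [this, mul_pos pos pos]
  · have := Nat.le_of_dvd (by positivity) h
    nlinarith only [this, mul_pos pos pos]
  · have h3 : 4 * t * (8 * t ^ 2 + 4 * t + 1) * (2 * t + 1) = (2 * (8 * t ^ 2 + 4 * t + 1) * (2 * t + 1)) * (2 * t) := by ring
    have := Nat.le_of_dvd (by positivity) h
    have h4 : 0 < 2 * (8 * t ^ 2 + 4 * t + 1) * (2 * t + 1) := by positivity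
    nlinarith only [hq5, ht, this]
  · have := Nat.le_of_dvd (by positivity) h
    have h4 : 0 < 2 * (8 * t ^ 2 + 4 * t + 1) * (2 * t) := by positivity
    linarith only [hlarge, this, h4]
  · have := Nat.le_of_dvd (by positivity) h
    nlinarith only [hlarge, this, mul_pos pos pos]
  · have := Nat.le_of_dvd (by positivity) h
    nlinarith only [this, mul_pos pos pos]
  · have := Nat.le_of_dvd (by positivity) h
    nlinarith only [this, mul_pos pos pos]

section Lower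

variable [DecidableEq F]

theorem pm : quadraticChar F (-1) = 1 ∨ quadraticChar F (-1) = -1 :=
  quadraticChar_dichotomy (neg_ne_zero.2 one_ne_zero)

theorem of_rz (h2 : (2 : F) ≠ 0) {n₁ n₂ : ℕ} {d : ℤ} {s : ℤˣ} {N : ℕ} (h : Rz F n₁ d s (2 * N)) (hN : N ≠ 0)
    (hd : d = 1 ∨ d = -1) (hn : n₁ + n₂ = 7) (hn₂ : n₂ ≠ 0) :
    ∃ g : Cfsg.POmega F (Cfsg.quadFormOdd 3 F), orderOf g = N := by
  have h1 : Rz F n₁ d 1 N := by
    have := h.pow (by omega) (M := N) (Dvd.intro_left 2 rfl)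
    rwa [Nat.mul_div_cancel _ (Nat.pos_of_ne_zero hN), pow_two, Int.units_mul_self] at this
  have h3 : dc (oddForm 3 F) = 1 ∨ dc (oddForm 3 F) = -1 := dc_cases (nondeg_oddForm 3 F h2)
  have h4 := Rz.add h2 h1 (rz_one h2 hn₂ (d := d * dc (oddForm 3 F)) (by
    rcases hd with rfl | rfl <;> rcases h3 with h3 | h3 <;> rw [h3] <;> simp))
  have h5 : d * (d * dc (oddForm 3 F)) = dc (oddForm 3 F) := by
    rcases hd with rfl | rfl <;> ring
  rw [hn, h5, mul_one, Nat.lcm_one_right] at h4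
  obtain ⟨g, hg, ho⟩ := transport_rz h2 (nondeg_oddForm 3 F h2) (by simp) h4
  exact (range_seven h2 N).2 ⟨g, hg, ho⟩

end Lower

variable {m : ℕ} (hm : 1 ≤ m) (hF : Fintype.card F = 5 ^ m)
include hm hF

/-- **L5 (a)** -/
theorem lb_a : ∃ g : Cfsg.POmega F (Cfsg.quadFormOdd 3 F), orderOf g = (Fintype.card F ^ 3 - 1) / 2 := by
  classical
  have h2 := two_ne hF
  obtain ⟨hq5, hq⟩ := q_facts hm hF
  obtain ⟨s, hs⟩ := rz_split (F := F) (d := 3) (by norm_num)
  obtain ⟨t, ht⟩ := four_dvd hq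
  have e1 : Fintype.card F ^ 3 - 1 = 2 * ((Fintype.card F ^ 3 - 1) / 2) := by
    have : Fintype.card F ^ 3 = 2 * (2 * t * (16 * t ^ 2 + 12 * t + 3)) + 1 := by rw [ht]; ring
    omega
  have e2 : (Fintype.card F ^ 3 - 1) / 2 ≠ 0 := by
    have : 5 ^ 3 ≤ Fintype.card F ^ 3 := Nat.pow_le_pow_left hq5 3
    omega
  rw [e1] at hs
  refine of_rz h2 hs e2 ?_ (n₂ := 1) (by norm_num) one_ne_zero
  rcases pm (F := F) with h | h <;> rw [h] <;> norm_num

/-- **L5 (b)** -/
theorem lb_b : ∃ g : Cfsg.POmega F (Cfsg.quadFormOdd 3 F), orderOf g = (Fintype.card F ^ 3 + 1) / 2 := by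
  classical
  have h2 := two_ne hF
  obtain ⟨hq5, hq⟩ := q_facts hm hF
  obtain ⟨c, s, hc, -, hs⟩ := rz_nonsplit (F := F) h2 (d := 3) (by norm_num)
  obtain ⟨t, ht⟩ := four_dvd hq
  have e1 : Fintype.card F ^ 3 + 1 = 2 * ((Fintype.card F ^ 3 + 1) / 2) := by
    have : Fintype.card F ^ 3 = 2 * (2 * t * (16 * t ^ 2 + 12 * t + 3)) + 1 := by rw [ht]; ring
    omega
  have e2 : (Fintype.card F ^ 3 + 1) / 2 ≠ 0 := by
    have : 5 ^ 3 ≤ Fintype.card F ^ 3 := Nat.pow_le_pow_left hq5 3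
    omega
  rw [e1] at hs
  exact of_rz h2 hs e2 hc (n₂ := 1) (by norm_num) one_ne_zero

/-- **L5 (c)** -/
theorem lb_c : ∃ g : Cfsg.POmega F (Cfsg.quadFormOdd 3 F), orderOf g = (Fintype.card F ^ 2 + 1) / 2 := by
  classical
  have h2 := two_ne hF
  obtain ⟨hq5, hq⟩ := q_facts hm hF
  obtain ⟨c, s, hc, -, hs⟩ := rz_nonsplit (F := F) h2 (d := 2) (by norm_num)
  obtain ⟨t, ht⟩ := four_dvd hq
  have e1 : Fintype.card F ^ 2 + 1 = 2 * ((Fintype.card F ^ 2 + 1) / 2) := by
    have : Fintype.card F ^ 2 = 2 * (4 * t * (2 * t + 1)) + 1 := by rw [ht]; ring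
    omega
  have e2 : (Fintype.card F ^ 2 + 1) / 2 ≠ 0 := by
    have : 5 ^ 2 ≤ Fintype.card F ^ 2 := Nat.pow_le_pow_left hq5 2
    omega
  rw [e1] at hs
  exact of_rz h2 hs e2 hc (n₂ := 3) (by norm_num) (by norm_num)

/-- **L5 (d)** -/
theorem lb_d : ∃ g : Cfsg.POmega F (Cfsg.quadFormOdd 3 F), orderOf g = 25 := by
  classical
  have h2 := two_ne hF
  have := char_five hF
  have hp : Fact (Nat.Prime 5) := ⟨by norm_num⟩
  have h3 := rz_jordan (F := F) (p := 5) h2 (n := 7) (a := 1) (by decide) (by norm_num)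
    (dc_cases (nondeg_oddForm 3 F h2))
  obtain ⟨g, hg, ho⟩ := transport_rz h2 (nondeg_oddForm 3 F h2) (by simp) h3
  exact (range_seven h2 25).2 ⟨g, hg, by rw [ho]; norm_num⟩

end Cfsg.Agent.H970.Om7
end
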